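import Groth.Agent.H16Derived.Defo.FirstOrder
import Groth.Agent.H10Coh.SheafHom.Adj
import Groth.Agent.H10Coh.ToSheaf
import Groth.Agent.H15Site.Invertible
import Groth.Agent.H16Derived.KFlat.SheafTensor
import Groth.Prelude.Def_DefoConn

/-!
# Deformations of connections
-/

set_option autoImplicit false
set_option linter.style.haveILetI false
set_option backward.isDefEq.respectTransparency false

universe u

open CategoryTheory CategoryTheory.Limits AlgebraicGeometry TopologicalSpace Opposite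
open Groth.Agent.H10Coh.SheafHom Groth.Agent.H16Derived.KFlat.Stalk

noncomputable section

namespace Groth.Agent.H16Derived.Defo

variable {k : Type u} [Field k] {X : Scheme.{u}} [X.Over (Spec (CommRingCat.of k))] {Ω' : X.Modules}

/-- The underlying map of abelian sheaves. -/
abbrev G {M N : X.Modules} (f : M ⟶ N) : Coh.toAb M ⟶ Coh.toAb N := (SheafOfModules.toSheaf X.ringCatSheaf).map f

/-- `f ⊗ 1`. -/
abbrev tm {M N : X.Modules} (Ω' : X.Modules) (f : M ⟶ N) : CohB1.tensorMod M Ω' ⟶ CohB1.tensorMod N Ω' :=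
  KoszTw.tensorMap f (𝟙 Ω')

omit [X.Over (Spec (CommRingCat.of k))] in
theorem toAb_ext {M N : X.Modules} {a b : Coh.toAb M ⟶ Coh.toAb N}
    (h : ∀ (U : X.Opens) (x : M.val.obj (op U)), ConnSh.secApp a U x = ConnSh.secApp b U x) : a = b := by
  apply CategoryTheory.Sheaf.hom_ext
  exact NatTrans.ext (funext fun U => ConcreteCategory.hom_ext _ _ fun x => h U.unop x)

omit [X.Over (Spec (CommRingCat.of k))] in
theorem hor_iff {M N : X.Modules} {c : Coh.toAb M ⟶ Coh.toAb (CohB1.tensorMod M Ω')}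
    {c' : Coh.toAb N ⟶ Coh.toAb (CohB1.tensorMod N Ω')} {φ : M ⟶ N} :
    ConnSh.IsHorizontal c c' φ ↔ G φ ≫ c' = c ≫ G (tm Ω' φ) :=
  ⟨fun h => toAb_ext fun U x => h U x, fun h U x => congr($(congrArg (fun a => ConnSh.secApp a U) h) x)⟩

omit [X.Over (Spec (CommRingCat.of k))] in
theorem tm_add {M N : X.Modules} (f g : M ⟶ N) : tm Ω' (f + g) = tm Ω' f + tm Ω' g := by
  simp only [tm, ← KoszTw.tensorRightMod_map, Functor.map_add]

omit [X.Over (Spec (CommRingCat.of k))] in
theorem tm_comp {M N L : X.Modules} (f : M ⟶ N) (g : N ⟶ L) : tm Ω' (f ≫ g) = tm Ω' f ≫ tm Ω' g := by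
  rw [tm, tm, tm, ← KoszTw.tensorMap_comp, Category.id_comp]

omit [X.Over (Spec (CommRingCat.of k))] in
theorem tm_id (M : X.Modules) : tm Ω' (𝟙 M) = 𝟙 _ := KoszTw.tensorMap_id M Ω'

omit [X.Over (Spec (CommRingCat.of k))] in
theorem tm_zero (M N : X.Modules) : tm Ω' (0 : M ⟶ N) = 0 := by
  simp only [tm, ← KoszTw.tensorRightMod_map, Functor.map_zero]

omit [X.Over (Spec (CommRingCat.of k))] in
theorem tm_tmul {M N : X.Modules} (f : M ⟶ N) (U : X.Opens) (m : Γ(M, U)) (w : Γ(Ω', U)) :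
    (tm Ω' f).app U (SecTwist.tmul M Ω' U m w) = SecTwist.tmul N Ω' U (f.app U m) w :=
  KoszTw.tensorMap_tmul f (𝟙 Ω') U m w

theorem tm_smulMod (M : X.Modules) (a : k) :
    tm Ω' (Formal.smulMod k M a) = Formal.smulMod k (CohB1.tensorMod M Ω') a := by
  refine tensor_ext fun U m n => ?_
  refine (tm_tmul (Formal.smulMod k M a) U m n).trans ?_
  refine (congrArg (fun z => SecTwist.tmul M Ω' U z n) (KLin.smulModΓ_app_apply M _ U m)).trans ?_
  exact (tensorSect_smul_left _ m n).trans (KLin.smulModΓ_app_apply (CohB1.tensorMod M Ω') _ U _).symm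

theorem tm_smul {M N : X.Modules} (a : k) (f : M ⟶ N) : tm Ω' (a • f) = a • tm Ω' f := by
  rw [KLin.smul_def, tm_comp, tm_smulMod, ← KLin.smul_def]

variable {δ : OmegaSh.Der (X ↘ Spec (CommRingCat.of k)) Ω'}

/-- The derivation kills the scalars. -/
theorem der_scal (a : k) (U : X.Opens) :
    δ.app U (X.presheaf.map (homOfLE (le_top : U ≤ ⊤)).op (Coh.toGlobal (X ↘ Spec (CommRingCat.of k)) a)) = 0 := by
  refine (δ.d_map (X := op ⊤) (Y := op U) (homOfLE (le_top : U ≤ ⊤)).op _).trans ?_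
  have h : δ.d (X := op (⊤ : X.Opens)) (Coh.toGlobal (X ↘ Spec (CommRingCat.of k)) a) = 0 :=
    δ.d_app (X := op ⊤) ((Scheme.ΓSpecIso (CommRingCat.of k)).inv a)
  exact (congrArg _ h).trans (map_zero _)

/-- Scalars are horizontal. -/
theorem smul_hor {M : X.Modules} {c : Coh.toAb M ⟶ Coh.toAb (CohB1.tensorMod M Ω')} (hc : ConnSh.IsConn δ M c)
    (a : k) : G (a • 𝟙 M) ≫ c = c ≫ G (a • 𝟙 (CohB1.tensorMod M Ω')) := by
  rw [KLin.smul_id, KLin.smul_id]
  refine toAb_ext fun U x => ?_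
  refine (hc U (X.presheaf.map (homOfLE (le_top : U ≤ ⊤)).op (Coh.toGlobal (X ↘ Spec (CommRingCat.of k)) a)) x).trans ?_
  rw [der_scal]
  have h0 : SecTwist.tmul M Ω' U x (0 : Γ(Ω', U)) = 0 :=
    (congrArg _ (TensorProduct.tmul_zero _ x)).trans (map_zero _)
  rw [h0, add_zero]
  rfl

omit [X.Over (Spec (CommRingCat.of k))] in
theorem secApp_G {M N : X.Modules} (f : M ⟶ N) (U : X.Opens) (x : M.val.obj (op U)) :
    ConnSh.secApp (G f) U x = f.app U x := rfl

omit [X.Over (Spec (CommRingCat.of k))] in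
theorem secApp_add {M N : X.Modules} (a b : Coh.toAb M ⟶ Coh.toAb N) (U : X.Opens) (x : M.val.obj (op U)) :
    ConnSh.secApp (a + b) U x = ConnSh.secApp a U x + ConnSh.secApp b U x := rfl

/-- A connection plus a linear map is a connection. -/
theorem isConn_add {M : X.Modules} {c : Coh.toAb M ⟶ Coh.toAb (CohB1.tensorMod M Ω')} (hc : ConnSh.IsConn δ M c)
    (ψ : M ⟶ CohB1.tensorMod M Ω') : ConnSh.IsConn δ M (c + G ψ) := fun U t e => by
  rw [secApp_add, secApp_add, hc, secApp_G, secApp_G]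
  have h1 : (ψ.app U (t • e) : (CohB1.tensorMod M Ω').val.obj (op U)) = t • ψ.app U e :=
    Scheme.Modules.Hom.app_smul ψ t e
  rw [h1, smul_add]
  exact add_right_comm _ _ _

/-- The difference of two connections is linear. -/
theorem exists_linear {M : X.Modules} {c c' : Coh.toAb M ⟶ Coh.toAb (CohB1.tensorMod M Ω')}
    (hc : ConnSh.IsConn δ M c) (hc' : ConnSh.IsConn δ M c') : ∃ ψ : M ⟶ CohB1.tensorMod M Ω', G ψ = c' - c := by
  refine ⟨⟨PresheafOfModules.homMk (c' - c).hom fun U r m => ?_⟩, toAb_ext fun U x => rfl⟩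
  show ConnSh.secApp c' U.unop (r • m) - ConnSh.secApp c U.unop (r • m) =
    r • (ConnSh.secApp c' U.unop m - ConnSh.secApp c U.unop m)
  rw [hc U.unop r m, hc' U.unop r m]
  refine Eq.trans ?_ (smul_sub r _ _).symm
  exact add_sub_add_right_eq_sub _ _ _

omit [X.Over (Spec (CommRingCat.of k))] in
/-- Tensoring an extension with flat quotient. -/
theorem shortExact_tm {S : ShortComplex X.Modules} (hS : S.ShortExact) (h₃ : FlatMod.IsFlat S.X₃) :
    (ShortComplex.mk (tm Ω' S.f) (tm Ω' S.g) (by rw [← tm_comp, S.zero, tm_zero])).ShortExact := by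
  have e : (DCoh.tensorBi (X := X)).flip.obj Ω' ≅ (DCoh.tensorBi (X := X)).obj Ω' :=
    (H15Site.ModTensor.tLIso (O := X.sheaf) Ω').symm
  refine ShortComplex.shortExact_of_iso ?_ (shortExact_tensor_of_isFlat Ω' hS h₃)
  refine S.mapNatIso e.symm ≪≫ ShortComplex.isoMk (Iso.refl _) (Iso.refl _) (Iso.refl _) ?_ ?_
  · exact (Category.id_comp _).trans ((KoszTw.tensorBi_map_app S.f Ω').symm.trans (Category.comp_id _).symm)
  · exact (Category.id_comp _).trans ((KoszTw.tensorBi_map_app S.g Ω').symm.trans (Category.comp_id _).symm)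

variable {E : X.Modules} {nabla : Coh.toAb E ⟶ Coh.toAb (CohB1.tensorMod E Ω')}

/-- A connection commuting with `ε` commutes with the dual numbers. -/
theorem act_hor (D : DefoSh.Defo E (ArtFun.Art.dual k k)) {c : Coh.toAb D.sheaf ⟶ Coh.toAb (CohB1.tensorMod D.sheaf Ω')}
    (hc : ConnSh.IsConn δ D.sheaf c) (h : G (T D) ≫ c = c ≫ G (tm Ω' (T D))) (a : ArtFun.Art.dual k k) :
    ConnSh.IsHorizontal c c (D.act a) := by
  rw [hor_iff, act_eq D a]
  have hs : ∀ (r : k) {M N : X.Modules} (f : M ⟶ N), r • f = f ≫ (r • 𝟙 N) := fun r M N f => by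
    rw [Linear.comp_smul, Category.comp_id]
  rw [hs _ (T D)]
  simp only [tm_add, tm_comp, tm_smul, tm_id, G, Functor.map_add, Functor.map_comp, Preadditive.add_comp,
    Preadditive.comp_add, Category.assoc]
  rw [smul_hor hc, smul_hor hc, reassoc_of% h]

/-- A section of the kernel of both `ε ⊗ 1` and `π ⊗ 1`. -/
theorem ι_hor {D : DefoSh.Defo E (ArtFun.Art.dual k k)} {ι : E ⟶ D.sheaf} (hι : D.π ≫ ι = T D)
    (c : DefoSh.DefoConn δ nabla D) : G ι ≫ c.conn = nabla ≫ G (tm Ω' ι) := by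
  haveI := epi_π D
  haveI := Groth.Agent.H10Coh.preservesFiniteColimits_toSheaf X.ringCatSheaf
  haveI : Epi (G D.π) := inferInstance
  rw [← cancel_epi (G D.π), ← Category.assoc, ← Category.assoc, hor_iff.1 c.π_horizontal, ← Functor.map_comp, hι,
    show G (T D) ≫ c.conn = c.conn ≫ G (tm Ω' (T D)) from hor_iff.1 (c.act_horizontal eps), ← hι, tm_comp, Category.assoc]
  exact congrArg (c.conn ≫ ·) ((SheafOfModules.toSheaf X.ringCatSheaf).map_comp _ _)

end Groth.Agent.H16Derived.Defo
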