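import Groth.Agent.H16Derived.Defo.Conn

/-!
# Classification of deformations of a connection over a first-order deformation
-/

set_option autoImplicit false
set_option linter.style.haveILetI false
set_option backward.isDefEq.respectTransparency false

universe u

open CategoryTheory CategoryTheory.Limits AlgebraicGeometry TopologicalSpace Opposite
open Groth.Agent.H16Derived.KFlat.Stalk

noncomputable section

namespace Groth.Agent.H16Derived.Defo

variable {k : Type u} [Field k] {X : Scheme.{u}} [X.Over (Spec (CommRingCat.of k))] {Ω' : X.Modules}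
  {δ : OmegaSh.Der (X ↘ Spec (CommRingCat.of k)) Ω'}
  {E : X.Modules} {nabla : Coh.toAb E ⟶ Coh.toAb (CohB1.tensorMod E Ω')}
  {D : DefoSh.Defo E (ArtFun.Art.dual k k)} {ι : E ⟶ D.sheaf} (hι : D.π ≫ ι = T D)

include hι

theorem ι_T : ι ≫ T D = 0 := by
  rw [← hι, ← Category.assoc, ι_π hι, zero_comp]

theorem T_tm : tm Ω' (T D) = tm Ω' D.π ≫ tm Ω' ι := by rw [← hι, tm_comp]

/-- Factorisation of a map that reduces to zero and commutes with `ε`. -/
theorem exists_factor (hE : FlatMod.IsFlat E) (a : D.sheaf ⟶ CohB1.tensorMod D.sheaf Ω')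
    (h1 : a ≫ tm Ω' D.π = 0) (h2 : T D ≫ a = a ≫ tm Ω' (T D)) :
    ∃ φ : E ⟶ CohB1.tensorMod E Ω', a = D.π ≫ φ ≫ tm Ω' ι := by
  haveI := epi_π D
  have hS := shortExact hι (ι_π hι)
  have hT := shortExact_tm (Ω' := Ω') hS hE
  haveI : Mono (tm Ω' ι) := hT.mono_f
  haveI := hT.mono_f
  obtain ⟨a', ha'⟩ : ∃ a', a' ≫ tm Ω' ι = a := ⟨_, hT.exact.lift_f a h1⟩
  have hιa : ι ≫ a = 0 := by
    rw [← cancel_epi D.π, ← Category.assoc, hι, h2, T_tm hι, ← Category.assoc, h1, zero_comp, comp_zero]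
  have hιa' : ι ≫ a' = 0 := by
    rw [← cancel_mono (tm Ω' ι), Category.assoc, ha', hιa, zero_comp]
  haveI := hS.epi_g
  obtain ⟨φ, hφ⟩ : ∃ φ, D.π ≫ φ = a' := ⟨_, hS.exact.g_desc a' hιa'⟩
  exact ⟨φ, by rw [← ha', ← hφ, Category.assoc]⟩

/-- Factorisation of an endomorphism that reduces to zero and commutes with `ε`. -/
theorem exists_factor_end (n : D.sheaf ⟶ D.sheaf) (h1 : n ≫ D.π = 0) (h2 : T D ≫ n = n ≫ T D) :
    ∃ S : E ⟶ E, n = D.π ≫ S ≫ ι := by
  haveI := epi_π D
  have hS := shortExact hι (ι_π hι)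
  haveI : Mono ι := hS.mono_f
  haveI := hS.mono_f
  haveI := hS.epi_g
  obtain ⟨a', ha'⟩ : ∃ a', a' ≫ ι = n := ⟨_, hS.exact.lift_f n h1⟩
  have hn : ι ≫ n = 0 := by
    rw [← cancel_epi D.π, ← Category.assoc, hι, h2, ← hι, ← Category.assoc, h1, zero_comp, comp_zero]
  have hn' : ι ≫ a' = 0 := by
    rw [← cancel_mono ι, Category.assoc, ha', hn, zero_comp]
  obtain ⟨S, hS'⟩ : ∃ S, D.π ≫ S = a' := ⟨_, hS.exact.g_desc a' hn'⟩
  exact ⟨S, by rw [← ha', ← hS', Category.assoc]⟩

/-- Deformations of a connection form a torsor under `Hom(E, E ⊗ Ω')`. -/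
theorem exists_equiv (hE : FlatMod.IsFlat E) (c₀ : DefoSh.DefoConn δ nabla D) :
    ∃ Φ : DefoSh.DefoConn δ nabla D ≃ (E ⟶ CohB1.tensorMod E Ω'),
      ∀ c : DefoSh.DefoConn δ nabla D, c.conn - c₀.conn = G (D.π ≫ Φ c ≫ tm Ω' ι) := by
  haveI := epi_π D
  haveI : Mono (tm Ω' ι) := (shortExact_tm (Ω' := Ω') (shortExact hι (ι_π hι)) hE).mono_f
  haveI : (SheafOfModules.toSheaf X.ringCatSheaf).Faithful := inferInstance
  have inj : ∀ {M N : X.Modules} {f g : M ⟶ N}, G f = G g → f = g := fun h =>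
    (SheafOfModules.toSheaf X.ringCatSheaf).map_injective h
  have hval : ∀ c : DefoSh.DefoConn δ nabla D, ∃ φ : E ⟶ CohB1.tensorMod E Ω',
      c.conn - c₀.conn = G (D.π ≫ φ ≫ tm Ω' ι) := fun c => by
    obtain ⟨a, ha⟩ := exists_linear c₀.isConn c.isConn
    obtain ⟨φ, hφ⟩ := exists_factor hι hE a (inj (by
      show (SheafOfModules.toSheaf X.ringCatSheaf).map _ =
        (SheafOfModules.toSheaf X.ringCatSheaf).map (0 : D.sheaf ⟶ CohB1.tensorMod E Ω')
      rw [Functor.map_comp, Functor.map_zero, show (SheafOfModules.toSheaf X.ringCatSheaf).map a = c.conn - c₀.conn from ha,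
        Preadditive.sub_comp, ← hor_iff.1 c.π_horizontal, ← hor_iff.1 c₀.π_horizontal, sub_self])) (inj (by
      show (SheafOfModules.toSheaf X.ringCatSheaf).map _ = (SheafOfModules.toSheaf X.ringCatSheaf).map _
      rw [Functor.map_comp, Functor.map_comp, show (SheafOfModules.toSheaf X.ringCatSheaf).map a = c.conn - c₀.conn from ha,
        Preadditive.sub_comp, Preadditive.comp_sub]
      exact congrArg₂ (· - ·) (hor_iff.1 (c.act_horizontal eps)) (hor_iff.1 (c₀.act_horizontal eps))))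
    exact ⟨φ, by rw [← ha, hφ]⟩
  choose Φ hΦ using hval
  let mk : (E ⟶ CohB1.tensorMod E Ω') → DefoSh.DefoConn δ nabla D := fun φ =>
    { conn := c₀.conn + G (D.π ≫ φ ≫ tm Ω' ι)
      isConn := isConn_add c₀.isConn _
      act_horizontal := act_hor D (isConn_add c₀.isConn _) (by
        have h0 : T D ≫ D.π ≫ φ ≫ tm Ω' ι = (D.π ≫ φ ≫ tm Ω' ι) ≫ tm Ω' (T D) := by
          rw [reassoc_of% (T_π D), zero_comp, Category.assoc, Category.assoc, ← tm_comp, ι_T hι, tm_zero, comp_zero,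
            comp_zero]
        have h3 : G (T D) ≫ c₀.conn = c₀.conn ≫ G (tm Ω' (T D)) := hor_iff.1 (c₀.act_horizontal eps)
        rw [Preadditive.comp_add, Preadditive.add_comp, h3]
        exact congrArg (_ + ·) (((SheafOfModules.toSheaf X.ringCatSheaf).map_comp _ _).symm.trans
          ((congrArg (SheafOfModules.toSheaf X.ringCatSheaf).map h0).trans
            ((SheafOfModules.toSheaf X.ringCatSheaf).map_comp _ _))))
      π_horizontal := hor_iff.2 (by
        have h0 : (D.π ≫ φ ≫ tm Ω' ι) ≫ tm Ω' D.π = 0 := by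
          rw [Category.assoc, Category.assoc, ← tm_comp, ι_π hι, tm_zero, comp_zero, comp_zero]
        rw [Preadditive.add_comp, ← hor_iff.1 c₀.π_horizontal]
        refine ((congrArg (_ + ·) (((SheafOfModules.toSheaf X.ringCatSheaf).map_comp _ _).symm.trans
          ((congrArg (SheafOfModules.toSheaf X.ringCatSheaf).map h0).trans (Functor.map_zero _ _ _)))).trans
            (add_zero _)).symm) }
  refine ⟨⟨Φ, mk, fun c => ?_, fun φ => ?_⟩, hΦ⟩
  · have e : (mk (Φ c)).conn = c.conn := by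
      show c₀.conn + _ = _
      rw [← hΦ c, add_sub_cancel]
    generalize mk (Φ c) = c' at e
    cases c'; cases c; cases e; rfl
  · have h1 := hΦ (mk φ)
    rw [show (mk φ).conn - c₀.conn = G (D.π ≫ φ ≫ tm Ω' ι) from add_sub_cancel_left _ _] at h1
    exact ((cancel_mono (tm Ω' ι)).1 ((cancel_epi D.π).1 (inj h1))).symm

/-- Transport classes. -/
theorem transport_iff (c c' : DefoSh.DefoConn δ nabla D) :
    DefoSh.DefoConn.Transport c c' ↔ ∃ S : E ⟶ E,
      c'.conn - c.conn = G D.π ≫ (nabla ≫ G (tm Ω' S) - G S ≫ nabla) ≫ G (tm Ω' ι) := by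
  have key : ∀ S : E ⟶ E, (G (D.π ≫ S ≫ ι) ≫ c'.conn = G D.π ≫ (G S ≫ nabla) ≫ G (tm Ω' ι)) ∧
      c.conn ≫ G (tm Ω' (D.π ≫ S ≫ ι)) = G D.π ≫ (nabla ≫ G (tm Ω' S)) ≫ G (tm Ω' ι) := fun S => by
    refine ⟨?_, ?_⟩
    · simp only [G, Functor.map_comp, Category.assoc]
      rw [show (SheafOfModules.toSheaf X.ringCatSheaf).map ι ≫ c'.conn = nabla ≫ G (tm Ω' ι) from ι_hor hι c']
    · rw [tm_comp, tm_comp]
      have h := hor_iff.1 c.π_horizontal
      simp only [G, Functor.map_comp, Category.assoc] at h ⊢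
      rw [← reassoc_of% h]
  constructor
  · rintro ⟨e, he⟩
    obtain ⟨S, hS⟩ := exists_factor_end hι (e.iso.hom - 𝟙 D.sheaf)
      (by rw [Preadditive.sub_comp, e.hom_π, Category.id_comp, sub_self])
      (by rw [Preadditive.comp_sub, Preadditive.sub_comp, Category.comp_id, Category.id_comp]
          exact congrArg (· - _) (e.act_hom eps))
    refine ⟨S, ?_⟩
    have h := hor_iff.1 he
    rw [show e.iso.hom = 𝟙 _ + D.π ≫ S ≫ ι by rw [← hS]; abel] at h
    rw [tm_add, tm_id] at h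
    simp only [G, Functor.map_add, CategoryTheory.Functor.map_id, Preadditive.add_comp, Preadditive.comp_add] at h
    replace h : c'.conn + G (D.π ≫ S ≫ ι) ≫ c'.conn = c.conn + c.conn ≫ G (tm Ω' (D.π ≫ S ≫ ι)) :=
      (congrArg (· + _) (Category.id_comp c'.conn).symm).trans (h.trans (congrArg (· + _) (Category.comp_id c.conn)))
    rw [(key S).1, (key S).2] at h
    rw [Preadditive.sub_comp, Preadditive.comp_sub, eq_sub_iff_add_eq, ← add_right_inj c.conn, ← h]
    abel
  · rintro ⟨S, hS⟩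
    have h1 : ι ≫ (𝟙 D.sheaf + D.π ≫ S ≫ ι) = ι := by
      rw [Preadditive.comp_add, Category.comp_id, reassoc_of% (ι_π hι), zero_comp, add_zero]
    have h2 : (𝟙 D.sheaf + D.π ≫ S ≫ ι) ≫ D.π = D.π := by
      rw [Preadditive.add_comp, Category.id_comp, Category.assoc, Category.assoc, ι_π hι, comp_zero, comp_zero,
        add_zero]
    obtain ⟨e, he⟩ := exists_iso hι hι _ h1 h2
    refine ⟨e, hor_iff.2 ?_⟩
    rw [he, tm_add, tm_id]
    simp only [G, Functor.map_add, CategoryTheory.Functor.map_id, Preadditive.add_comp, Preadditive.comp_add]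
    refine (congrArg₂ (· + ·) (Category.id_comp c'.conn) (key S).1).trans
      (Eq.trans ?_ (congrArg₂ (· + ·) (Category.comp_id c.conn) (key S).2).symm)
    rw [Preadditive.sub_comp, Preadditive.comp_sub, sub_eq_iff_eq_add'] at hS
    rw [hS]
    abel

end Groth.Agent.H16Derived.Defo
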