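import Groth.Agent.H29Omega.StalkCompat
import Groth.Agent.H29Omega.ConormalSplit
import Groth.Agent.H29Omega.ConormalDiffStalk
import Groth.Agent.H29Omega.ConormalStalk
import Groth.Agent.H16Derived.KFlat.LocalLift
import Groth.Agent.H28Alg.ExtOne
import Groth.Prelude.Def_DefoSh2
import Mathlib.RingTheory.Flat.Tensor

/-!
# First-order deformations of a module are self-extensions
-/

set_option autoImplicit false
set_option linter.style.haveILetI false
set_option backward.isDefEq.respectTransparency false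

universe u

open CategoryTheory CategoryTheory.Limits AlgebraicGeometry TopologicalSpace TensorProduct ArtFun ArtFun.Art

noncomputable section

namespace Groth.Agent.H16Derived.Defo

theorem flat_of_ker_eps {k : Type u} [Field k] {M : Type u} [AddCommGroup M] [Module (DualNumber k) M]
    (h : ∀ m : M, (DualNumber.eps : DualNumber k) • m = 0 → ∃ v, m = (DualNumber.eps : DualNumber k) • v) :
    Module.Flat (DualNumber k) M := by
  refine (Module.Flat.iff_lTensor_injective' (R := DualNumber k) (M := M)).2 fun I => ?_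
  by_cases htop : I = ⊤
  · subst htop
    exact (LinearEquiv.lTensor M Submodule.topEquiv).injective
  have hle : ∀ a ∈ I, a.fst = 0 := fun a ha => by
    by_contra hne
    exact htop (I.eq_top_of_isUnit_mem ha (TrivSqZeroExt.isUnit_iff_isUnit_fst.2 (Ne.isUnit hne)))
  by_cases hbot : I = ⊥
  · subst hbot
    intro a b _
    exact Subsingleton.elim a b
  obtain ⟨a, ha, hne⟩ := Submodule.exists_mem_ne_zero_of_ne_bot hbot
  have hsnd : a.snd ≠ 0 := fun h0 => hne (TrivSqZeroExt.ext (hle a ha) h0)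
  have hmul : ∀ b : DualNumber k, b.fst = 0 → b = TrivSqZeroExt.inl b.snd * DualNumber.eps := fun b hb => by
    ext <;> simp [hb]
  have hε : (DualNumber.eps : DualNumber k) ∈ I := by
    have h1 := I.mul_mem_left (TrivSqZeroExt.inl a.snd⁻¹) ha
    convert h1 using 1
    ext <;> simp [hle a ha, hsnd]
  have hrep : ∀ t : M ⊗[DualNumber k] I, ∃ m : M, t = m ⊗ₜ (⟨_, hε⟩ : I) := by
    intro t
    induction t using TensorProduct.induction_on with
    | zero => exact ⟨0, (TensorProduct.zero_tmul _ _).symm⟩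
    | add x y hx hy =>
      obtain ⟨m, rfl⟩ := hx
      obtain ⟨m', rfl⟩ := hy
      exact ⟨m + m', (TensorProduct.add_tmul _ _ _).symm⟩
    | tmul m b =>
      refine ⟨(TrivSqZeroExt.inl (b : DualNumber k).snd : DualNumber k) • m, ?_⟩
      rw [TensorProduct.smul_tmul]
      exact congrArg _ (Subtype.ext (hmul _ (hle _ b.2)))
  rw [injective_iff_map_eq_zero]
  intro t ht
  obtain ⟨m, rfl⟩ := hrep t
  have h1 : (DualNumber.eps : DualNumber k) • m = 0 := by
    simpa using congrArg (TensorProduct.rid (DualNumber k) M) ht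
  obtain ⟨v, rfl⟩ := h m h1
  rw [TensorProduct.smul_tmul]
  have : (DualNumber.eps : DualNumber k) • (⟨_, hε⟩ : I) = 0 := Subtype.ext (by simp [DualNumber.eps_mul_eps])
  rw [this, TensorProduct.tmul_zero]

variable {k : Type u} [Field k] {X : Scheme.{u}} [X.Over (Spec (CommRingCat.of k))] {E : X.Modules}

/-- `ε`, as an element of the coefficient ring. -/
abbrev eps : (ArtFun.Art.dual k k) := (DualNumber.eps : DualNumber k)

variable (D : DefoSh.Defo E (ArtFun.Art.dual k k))

/-- The action of `ε`. -/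
abbrev T : D.sheaf ⟶ D.sheaf := D.act (DualNumber.eps : DualNumber k)

theorem T_T : T D ≫ T D = 0 := by
  show (D.act eps : End D.sheaf) * D.act eps = 0
  rw [← map_mul]
  exact (congrArg D.act DualNumber.eps_mul_eps).trans (map_zero _)

theorem T_π : T D ≫ D.π = 0 := D.act_π eps rfl

theorem act_eq (z : DualNumber k) :
    (D.act z : D.sheaf ⟶ D.sheaf) = z.fst • 𝟙 D.sheaf + z.snd • T D := by
  have h : (z : DualNumber k) = z.fst • (1 : DualNumber k) + z.snd • DualNumber.eps := by ext <;> simp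
  conv_lhs => rw [h]
  refine (congrArg (fun a : End D.sheaf => (a : D.sheaf ⟶ D.sheaf))
    (map_add (show DualNumber k →ₐ[k] End D.sheaf from D.act) _ _)).trans ?_
  rw [map_smul, map_smul, map_one]
  rfl

theorem comm_act {D' : DefoSh.Defo E (ArtFun.Art.dual k k)} (p : D.sheaf ⟶ D'.sheaf)
    (h : T D ≫ p = p ≫ T D') (a : ArtFun.Art.dual k k) : D.act a ≫ p = p ≫ D'.act a := by
  rw [act_eq D a, act_eq D' a]
  simp [Preadditive.add_comp, Preadditive.comp_add, Linear.smul_comp, Linear.comp_smul, h]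

theorem epi_π : Epi D.π := H29Omega.epi_of_surjective_stalkLin _ D.surj

theorem mem_maximal {a : ArtFun.Art.dual k k} (ha : a ∈ IsLocalRing.maximalIdeal (ArtFun.Art.dual k k)) :
    (show DualNumber k from a).fst = 0 :=
  (Art.mem_maximalIdeal_iff _ a).1 ha

theorem ker_π (p : X) (v : ↑(D.sheaf.presheaf.stalk p)) (hv : RefHull.stalkMapₗ D.π p v = 0) :
    ∃ w, v = RefHull.stalkMapₗ (T D) p w := by
  letI := D.stalkMod p
  have h := D.ker_le p v hv
  refine Submodule.smul_induction_on h (fun a ha w _ => ?_) fun x y hx hy => ?_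
  · let c : ArtFun.Art.dual k k := (TrivSqZeroExt.inl (show DualNumber k from a).snd : DualNumber k)
    refine ⟨c • w, ?_⟩
    show a • w = (eps (k := k)) • (c • w)
    rw [← mul_smul]
    refine congrArg (· • w) ?_
    show (show DualNumber k from a) = (DualNumber.eps : DualNumber k) * TrivSqZeroExt.inl (show DualNumber k from a).snd
    have h0 := mem_maximal ha
    ext <;> simp [h0]
  · obtain ⟨x', rfl⟩ := hx
    obtain ⟨y', rfl⟩ := hy
    exact ⟨x' + y', (map_add _ _ _).symm⟩

theorem T_apply_T (p : X) (w : ↑(D.sheaf.presheaf.stalk p)) :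
    RefHull.stalkMapₗ (T D) p (RefHull.stalkMapₗ (T D) p w) = 0 := by
  rw [← DefoSh.stalkMapₗ_comp_apply, T_T, DefoSh.stalkMapₗ_zero_apply]

theorem ker_T (p : X) (v : ↑(D.sheaf.presheaf.stalk p)) (hv : RefHull.stalkMapₗ (T D) p v = 0) :
    RefHull.stalkMapₗ D.π p v = 0 := by
  letI := D.stalkMod p
  haveI := D.flat p
  have h0 : ∑ i : Fin 1, (fun _ => (eps : ArtFun.Art.dual k k)) i • (fun _ => v) i = 0 := by
    rw [Fin.sum_univ_one]
    exact hv
  obtain ⟨n, c, y, hy, hc⟩ := Module.Flat.isTrivialRelation_of_sum_smul_eq_zero h0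
  rw [show v = ∑ j, c 0 j • y j from hy 0, map_sum]
  refine Finset.sum_eq_zero fun j _ => ?_
  show RefHull.stalkMapₗ D.π p (RefHull.stalkMapₗ (D.act (c 0 j)) p (y j)) = 0
  rw [← DefoSh.stalkMapₗ_comp_apply]
  have h1 : (eps : ArtFun.Art.dual k k) * c 0 j = 0 := by simpa using hc j
  have h2 : (show DualNumber k from c 0 j).fst = 0 := by
    have h3 : (DualNumber.eps : DualNumber k) * (show DualNumber k from c 0 j) = 0 := h1
    simpa using congrArg (fun z : DualNumber k => z.snd) h3
  rw [D.act_π _ h2, DefoSh.stalkMapₗ_zero_apply]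

/-- Multiplication by `ε` descends to `E`. -/
theorem exists_ι : ∃ ι : E ⟶ D.sheaf, D.π ≫ ι = T D := by
  haveI := epi_π D
  have hS : (ShortComplex.mk (kernel.ι D.π) D.π (kernel.condition _)).Exact :=
    ShortComplex.exact_of_f_is_kernel _ (kernelIsKernel D.π)
  have h0 : kernel.ι D.π ≫ T D = 0 := H29Omega.eq_zero_of_stalkLin _ fun p a => by
    show RefHull.stalkMapₗ (kernel.ι D.π ≫ T D) p a = 0
    rw [DefoSh.stalkMapₗ_comp_apply]
    obtain ⟨w, hw⟩ := ker_π D p (RefHull.stalkMapₗ (kernel.ι D.π) p a)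
      (by rw [← DefoSh.stalkMapₗ_comp_apply, kernel.condition, DefoSh.stalkMapₗ_zero_apply])
    rw [hw, T_apply_T]
  haveI : Epi (ShortComplex.mk (kernel.ι D.π) D.π (kernel.condition _)).g := epi_π D
  exact ⟨hS.desc (T D) h0, hS.g_desc (T D) h0⟩

variable {D}

theorem ι_unique {ι ι' : E ⟶ D.sheaf} (h : D.π ≫ ι = T D) (h' : D.π ≫ ι' = T D) : ι = ι' :=
  haveI := epi_π D
  (cancel_epi D.π).1 (h.trans h'.symm)

theorem ι_π {ι : E ⟶ D.sheaf} (h : D.π ≫ ι = T D) : ι ≫ D.π = 0 :=
  haveI := epi_π D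
  (cancel_epi D.π).1 (by rw [← Category.assoc, h, T_π, comp_zero])

/-- A first-order deformation is a self-extension. -/
theorem shortExact {ι : E ⟶ D.sheaf} (h : D.π ≫ ι = T D) (h0 : ι ≫ D.π = 0) :
    (ShortComplex.mk ι D.π h0).ShortExact := by
  have hT : ∀ (p : X) w, RefHull.stalkMapₗ (T D) p w =
      RefHull.stalkMapₗ ι p (RefHull.stalkMapₗ D.π p w) := fun p w => by
    rw [← DefoSh.stalkMapₗ_comp_apply, h]
  have hmono : Mono ι := H29Omega.mono_of_injective_stalkLin _ fun p a b hab => by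
    obtain ⟨v, hv⟩ := D.surj p (a - b)
    have h1 : RefHull.stalkMapₗ (T D) p v = 0 := by
      rw [hT, hv, map_sub]
      exact sub_eq_zero.2 hab
    rw [ker_T D p v h1] at hv
    exact sub_eq_zero.1 hv.symm
  refine { exact := ?_, mono_f := hmono, epi_g := epi_π D }
  refine H29Omega.exact_of_stalks _ fun p b hb => ?_
  obtain ⟨w, hw⟩ := ker_π D p b hb
  exact ⟨RefHull.stalkMapₗ D.π p w, ((hT p w).symm.trans hw.symm)⟩

/-- A map of extensions is an isomorphism of deformations. -/
theorem exists_iso {D' : DefoSh.Defo E (ArtFun.Art.dual k k)} {ι : E ⟶ D.sheaf} {ι' : E ⟶ D'.sheaf}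
    (h : D.π ≫ ι = T D) (h' : D'.π ≫ ι' = T D') (p : D.sheaf ⟶ D'.sheaf)
    (h1 : ι ≫ p = ι') (h2 : p ≫ D'.π = D.π) : ∃ e : DefoSh.Defo.Iso D D', e.iso.hom = p := by
  have hT : T D ≫ p = p ≫ T D' := by
    rw [← h, ← h', Category.assoc, h1, ← Category.assoc p, h2]
  let φ : ShortComplex.mk ι D.π (ι_π h) ⟶ ShortComplex.mk ι' D'.π (ι_π h') :=
    ShortComplex.homMk (𝟙 E) p (𝟙 E) (by simpa using h1.symm) (by simpa using h2)
  haveI : IsIso φ.τ₁ := inferInstanceAs (IsIso (𝟙 E))
  haveI : IsIso φ.τ₃ := inferInstanceAs (IsIso (𝟙 E))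
  haveI : IsIso p :=
    ShortComplex.isIso₂_of_shortExact_of_isIso₁₃ φ (shortExact h (ι_π h)) (shortExact h' (ι_π h'))
  exact ⟨⟨asIso p, comm_act D p hT, h2⟩, rfl⟩

/-- The inclusion is transported by isomorphisms. -/
theorem ι_map {D' : DefoSh.Defo E (ArtFun.Art.dual k k)} (e : DefoSh.Defo.Iso D D') {ι : E ⟶ D.sheaf}
    {ι' : E ⟶ D'.sheaf} (h : D.π ≫ ι = T D) (h' : D'.π ≫ ι' = T D') : ι ≫ e.iso.hom = ι' :=
  haveI := epi_π D
  (cancel_epi D.π).1 (by
    rw [← Category.assoc, h, ← e.hom_π, Category.assoc, h']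
    exact e.act_hom _)

/-- A self-extension is a first-order deformation. -/
theorem exists_defo {M : X.Modules} (i : E ⟶ M) (q : M ⟶ E) (w : i ≫ q = 0)
    (hS : (ShortComplex.mk i q w).ShortExact) :
    ∃ (D : DefoSh.Defo E (ArtFun.Art.dual k k)) (h : D.sheaf = M), D.π = eqToHom h ≫ q ∧
      D.π ≫ i ≫ eqToHom h.symm = T D := by
  let N : End M := q ≫ i
  have hN : N * N = 0 := by
    show (q ≫ i) ≫ q ≫ i = 0
    rw [Category.assoc, reassoc_of% w, zero_comp, comp_zero]
  let act : DualNumber k →ₐ[k] End M :=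
    DualNumber.lift ⟨(Algebra.ofId k (End M), N), hN, fun a => (Algebra.commutes a N).symm⟩
  have hact : ∀ z : DualNumber k, (act z : M ⟶ M) = z.fst • 𝟙 M + z.snd • (q ≫ i) := fun z => by
    show algebraMap k (End M) z.fst + algebraMap k (End M) z.snd * N = _
    rw [Algebra.algebraMap_eq_smul_one, Algebra.algebraMap_eq_smul_one, smul_mul_assoc, one_mul]
    rfl
  have heps : (act DualNumber.eps : M ⟶ M) = q ≫ i := by
    rw [hact]; simp
  have hstalk : ∀ p : X, ((ShortComplex.mk i q w).map (DerSch.stalkFunctor X p)).ShortExact := fun p =>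
    hS.map_of_exact _
  have hsurj : ∀ p : X, Function.Surjective (RefHull.stalkMapₗ q p) := fun p =>
    (ModuleCat.epi_iff_surjective _).1 (hstalk p).epi_g
  have hinj : ∀ p : X, Function.Injective (RefHull.stalkMapₗ i p) := fun p =>
    (ModuleCat.mono_iff_injective _).1 (hstalk p).mono_f
  have hex : ∀ (p : X) v, RefHull.stalkMapₗ q p v = 0 → ∃ a, RefHull.stalkMapₗ i p a = v := fun p v hv =>
    (ShortComplex.moduleCat_exact_iff _).1 (hstalk p).exact v hv
  have hker : ∀ (p : X) v, RefHull.stalkMapₗ q p v = 0 → ∃ u, v = RefHull.stalkMapₗ (act DualNumber.eps) p u :=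
    fun p v hv => by
      obtain ⟨a, rfl⟩ := hex p v hv
      obtain ⟨u, rfl⟩ := hsurj p a
      exact ⟨u, by rw [heps, DefoSh.stalkMapₗ_comp_apply]⟩
  let D : DefoSh.Defo E (ArtFun.Art.dual k k) :=
    { sheaf := M
      act := act
      π := q
      act_π := fun a ha => by
        refine (congrArg (· ≫ q) (hact a)).trans ?_
        have h0 : (show DualNumber k from a).fst = 0 := ha
        simp [h0, Linear.smul_comp, w]
      surj := hsurj
      ker_le := fun p v hv => by
        letI : Module (ArtFun.Art.dual k k) ↑(M.presheaf.stalk p) :=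
          DefoSh.stalkModule (A := ArtFun.Art.dual k k) M act.toRingHom p
        obtain ⟨u, rfl⟩ := hker p v hv
        exact Submodule.smul_mem_smul
          (show (DualNumber.eps : DualNumber k) ∈ IsLocalRing.maximalIdeal (ArtFun.Art.dual k k) from
            (Art.mem_maximalIdeal_iff _ _).2 rfl) (Submodule.mem_top (x := u))
      flat := fun p => by
        letI : Module (DualNumber k) ↑(M.presheaf.stalk p) := DefoSh.stalkModule M act.toRingHom p
        refine flat_of_ker_eps (k := k) fun m hm => hker p m (hinj p ?_)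
        rw [map_zero, ← DefoSh.stalkMapₗ_comp_apply, ← heps]
        exact hm }
  refine ⟨D, rfl, (Category.id_comp q).symm, ?_⟩
  show q ≫ i ≫ 𝟙 M = act DualNumber.eps
  rw [Category.comp_id, heps]

end Groth.Agent.H16Derived.Defo
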